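import Groth.Agent.Lib.Pinch4.FiniteSets
import Groth.Agent.Lib.ChevAff4.Main
import Mathlib.AlgebraicGeometry.IdealSheaf.Subscheme
import Mathlib.AlgebraicGeometry.Morphisms.Finite
import Mathlib.AlgebraicGeometry.Limits

/-!
Finite sets lying componentwise in affine opens lie in an affine open.
-/

set_option autoImplicit false
set_option linter.style.haveILetI false

universe u

open CategoryTheory CategoryTheory.Limits AlgebraicGeometry TopologicalSpace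

set_option backward.isDefEq.respectTransparency false

namespace Groth.Agent.AffComp11

variable {X : Scheme.{u}}

/-- The reduced subscheme on a closed set. -/
noncomputable abbrev red (Z : Closeds X) : X.IdealSheafData := Scheme.IdealSheafData.vanishingIdeal Z

/-- The points of `T` on the closed set lie in an open with affine trace. -/
def HasTrace (T : Set X) (Z : Closeds X) : Prop :=
  ∃ U : X.Opens, T ∩ Z ⊆ U ∧ IsAffineOpen ((red Z).subschemeι ⁻¹ᵁ U)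

theorem isClosedImmersion_inclusion {I J : X.IdealSheafData} (h : I ≤ J) :
    IsClosedImmersion (Scheme.IdealSheafData.inclusion h) := by
  haveI : IsClosedImmersion (Scheme.IdealSheafData.inclusion h ≫ I.subschemeι) := by
    rw [Scheme.IdealSheafData.inclusion_subschemeι]; infer_instance
  exact IsClosedImmersion.of_comp _ I.subschemeι

theorem mem_range_subschemeι {Z : Closeds X} {t : X} :
    t ∈ Set.range (red Z).subschemeι ↔ t ∈ Z := by
  rw [Scheme.IdealSheafData.range_subschemeι]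
  simp

theorem hasTrace_bot (T : Set X) : HasTrace T ⊥ := by
  refine ⟨⊥, fun x hx => absurd hx.2 (by simp), ?_⟩
  exact isAffineOpen_bot _

theorem hasTrace_of_isAffineOpen (T : Set X) (Z : Closeds X) (V : (red Z).subscheme.Opens) (hV : IsAffineOpen V)
    (h : ∀ t ∈ T, t ∈ Z → t ∈ (red Z).subschemeι.base '' (V : Set (red Z).subscheme)) : HasTrace T Z := by
  let ι := (red Z).subschemeι
  let U : X.Opens := ⟨(ι.base '' (V : Set (red Z).subscheme)ᶜ)ᶜ,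
    (ι.isClosedEmbedding.isClosedMap _ V.2.isClosed_compl).isOpen_compl⟩
  have hU : ι ⁻¹ᵁ U = V := by
    refine Opens.ext (Set.ext fun z => ⟨fun hz => ?_, fun hz => ?_⟩)
    · by_contra hn
      exact hz ⟨z, hn, rfl⟩
    · rintro ⟨w, hw, e⟩
      exact hw ((ι.isClosedEmbedding.injective e) ▸ hz)
  refine ⟨U, fun t ⟨ht, htZ⟩ => ?_, hU.symm ▸ hV⟩
  obtain ⟨z, hz, rfl⟩ := h t ht htZ
  have : z ∈ ι ⁻¹ᵁ U := hU.symm ▸ hz
  exact this

theorem hasTrace_sup {T : Set X} (hT : T.Finite) {Z₁ Z₂ : Closeds X} (h₁ : HasTrace T Z₁) (h₂ : HasTrace T Z₂) :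
    HasTrace T (Z₁ ⊔ Z₂) := by
  classical
  obtain ⟨U₁, hTU₁, hA₁⟩ := h₁
  obtain ⟨U₂, hTU₂, hA₂⟩ := h₂
  let ι₁ := (red Z₁).subschemeι
  let ι₂ := (red Z₂).subschemeι
  let I := red Z₁ ⊔ red Z₂
  let i : I.subscheme ⟶ (red Z₁).subscheme := Scheme.IdealSheafData.inclusion le_sup_left
  let j : I.subscheme ⟶ (red Z₂).subscheme := Scheme.IdealSheafData.inclusion le_sup_right
  haveI : IsClosedImmersion i := isClosedImmersion_inclusion _
  haveI : IsClosedImmersion j := isClosedImmersion_inclusion _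
  have hij : ∀ z, ι₁ (i z) = ι₂ (j z) := fun z => by
    rw [← Scheme.Hom.comp_apply, ← Scheme.Hom.comp_apply, Scheme.IdealSheafData.inclusion_subschemeι,
      Scheme.IdealSheafData.inclusion_subschemeι]
  have hmeet : ∀ x₁ x₂, ι₁ x₁ = ι₂ x₂ → ∃ z, i z = x₁ ∧ j z = x₂ := by
    intro x₁ x₂ e
    have h1 : ι₁ x₁ ∈ I.support := by
      rw [Scheme.IdealSheafData.support_sup]
      refine ⟨?_, ?_⟩
      · show ι₁ x₁ ∈ ((red Z₁).support : Set X)
        rw [← Scheme.IdealSheafData.range_subschemeι]; exact ⟨x₁, rfl⟩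
      · show ι₁ x₁ ∈ ((red Z₂).support : Set X)
        rw [e, ← Scheme.IdealSheafData.range_subschemeι]; exact ⟨x₂, rfl⟩
    obtain ⟨z, hz⟩ : ι₁ x₁ ∈ Set.range I.subschemeι := by rw [Scheme.IdealSheafData.range_subschemeι]; exact h1
    have hz₁ : ι₁ (i z) = ι₁ x₁ := by
      rw [← Scheme.Hom.comp_apply, Scheme.IdealSheafData.inclusion_subschemeι, hz]
    refine ⟨z, ι₁.isClosedEmbedding.injective hz₁, ι₂.isClosedEmbedding.injective ?_⟩
    rw [← hij, hz₁, e]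
  let E₁ : Set (red Z₁).subscheme := ι₁ ⁻¹' T
  let E₂ : Set (red Z₂).subscheme := ι₂ ⁻¹' T
  have hE₁ : E₁.Finite := hT.preimage ι₁.isClosedEmbedding.injective.injOn
  have hE₂ : E₂.Finite := hT.preimage ι₂.isClosedEmbedding.injective.injOn
  have hE₁U : E₁ ⊆ ι₁ ⁻¹ᵁ U₁ := fun x hx => hTU₁ ⟨hx, mem_range_subschemeι.1 ⟨x, rfl⟩⟩
  have hE₂U : E₂ ⊆ ι₂ ⁻¹ᵁ U₂ := fun x hx => hTU₂ ⟨hx, mem_range_subschemeι.1 ⟨x, rfl⟩⟩
  let F : Set I.subscheme := i ⁻¹' E₁
  have hF : F.Finite := hE₁.preimage i.isClosedEmbedding.injective.injOn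
  have hF' : j ⁻¹' E₂ = F := by
    ext z
    show ι₂ (j z) ∈ T ↔ ι₁ (i z) ∈ T
    rw [hij]
  obtain ⟨g, hgW, hFg⟩ := Pinch4.exists_basicOpen_finite (hA₁.preimage i) (W := j ⁻¹ᵁ (ι₂ ⁻¹ᵁ U₂)) hF
    (fun z hz => hE₂U (hF'.ge hz)) (fun z hz => hE₁U hz)
  obtain ⟨a₁, ha₁, hEa₁⟩ := Pinch4.exists_lift_basicOpen i hA₁ g hE₁ hE₁U hFg
  have hA₁' := hA₁.basicOpen a₁
  obtain ⟨g₂, hg₂W, hFg₂⟩ := Pinch4.exists_basicOpen_finite (hA₂.preimage j)
    (W := i ⁻¹ᵁ (red Z₁).subscheme.basicOpen a₁) hF (by rw [ha₁]; exact hFg) (fun z hz => hgW (hFg hz))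
  obtain ⟨a₂, ha₂, hEa₂⟩ := Pinch4.exists_lift_basicOpen j hA₂ g₂ hE₂ hE₂U (hF'.symm ▸ hFg₂)
  have hle : i ⁻¹ᵁ (red Z₁).subscheme.basicOpen a₁ ≤ j ⁻¹ᵁ (ι₂ ⁻¹ᵁ U₂) := ha₁ ▸ hgW
  let g₃ := (I.subscheme.presheaf.map (homOfLE hle).op).hom g₂
  have e3 : I.subscheme.basicOpen g₃ = i ⁻¹ᵁ (red Z₁).subscheme.basicOpen a₁ ⊓ I.subscheme.basicOpen g₂ :=
    I.subscheme.basicOpen_res _ _
  obtain ⟨a₃, ha₃, hEa₃⟩ := Pinch4.exists_lift_basicOpen i hA₁' g₃ hE₁ hEa₁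
    (by rw [e3]; exact fun z hz => ⟨ha₁.symm ▸ hFg hz, hFg₂ hz⟩)
  let O₁ := (red Z₁).subscheme.basicOpen a₃
  let O₂ := (red Z₂).subscheme.basicOpen a₂
  have hO₁ : IsAffineOpen O₁ := hA₁'.basicOpen a₃
  have hO₂ : IsAffineOpen O₂ := hA₂.basicOpen a₂
  have hagree : i ⁻¹ᵁ O₁ = j ⁻¹ᵁ O₂ := by rw [ha₃, ha₂, e3, inf_eq_right.2 hg₂W]
  let W : X.Opens := ⟨(ι₁.base '' (O₁ : Set (red Z₁).subscheme)ᶜ ∪ ι₂.base '' (O₂ : Set (red Z₂).subscheme)ᶜ)ᶜ,
    ((ι₁.isClosedEmbedding.isClosedMap _ O₁.2.isClosed_compl).union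
      (ι₂.isClosedEmbedding.isClosedMap _ O₂.2.isClosed_compl)).isOpen_compl⟩
  have hW₁ : ι₁ ⁻¹ᵁ W = O₁ := by
    refine Opens.ext (Set.ext fun x => ⟨fun hx => ?_, fun hx => ?_⟩)
    · by_contra hn
      exact hx (Or.inl ⟨x, hn, rfl⟩)
    · rintro (⟨x', hx', e⟩ | ⟨x₂, hx₂, e⟩)
      · exact hx' ((ι₁.isClosedEmbedding.injective e) ▸ hx)
      · obtain ⟨z, hz₁, hz₂⟩ := hmeet x x₂ e.symm
        have h1 : z ∈ i ⁻¹ᵁ O₁ := show i z ∈ O₁ from hz₁ ▸ hx
        rw [hagree] at h1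
        exact hx₂ (hz₂ ▸ h1)
  have hW₂ : ι₂ ⁻¹ᵁ W = O₂ := by
    refine Opens.ext (Set.ext fun x => ⟨fun hx => ?_, fun hx => ?_⟩)
    · by_contra hn
      exact hx (Or.inr ⟨x, hn, rfl⟩)
    · rintro (⟨x₁, hx₁, e⟩ | ⟨x', hx', e⟩)
      · obtain ⟨z, hz₁, hz₂⟩ := hmeet x₁ x e
        have h1 : z ∈ j ⁻¹ᵁ O₂ := show j z ∈ O₂ from hz₂ ▸ hx
        rw [← hagree] at h1
        exact hx₁ (hz₁ ▸ h1)
      · exact hx' ((ι₂.isClosedEmbedding.injective e) ▸ hx)
  refine ⟨W, fun t ⟨ht, htZ⟩ => ?_, ?_⟩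
  · rcases (show t ∈ (Z₁ : Set X) ∪ Z₂ from htZ) with h | h
    · obtain ⟨x, rfl⟩ := mem_range_subschemeι.2 h
      have : x ∈ ι₁ ⁻¹ᵁ W := hW₁.symm ▸ hEa₃ ht
      exact this
    · obtain ⟨x, rfl⟩ := mem_range_subschemeι.2 h
      have : x ∈ ι₂ ⁻¹ᵁ W := hW₂.symm ▸ hEa₂ ht
      exact this
  · let ι := (red (Z₁ ⊔ Z₂)).subschemeι
    let k₁ : (red Z₁).subscheme ⟶ (red (Z₁ ⊔ Z₂)).subscheme :=
      Scheme.IdealSheafData.inclusion (Scheme.IdealSheafData.vanishingIdeal_antimono le_sup_left)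
    let k₂ : (red Z₂).subscheme ⟶ (red (Z₁ ⊔ Z₂)).subscheme :=
      Scheme.IdealSheafData.inclusion (Scheme.IdealSheafData.vanishingIdeal_antimono le_sup_right)
    haveI : IsClosedImmersion k₁ := isClosedImmersion_inclusion _
    haveI : IsClosedImmersion k₂ := isClosedImmersion_inclusion _
    let N := ι ⁻¹ᵁ W
    have hk₁ : k₁ ⁻¹ᵁ N = O₁ := by
      rw [← hW₁, ← Scheme.Hom.comp_preimage, Scheme.IdealSheafData.inclusion_subschemeι]
    have hk₂ : k₂ ⁻¹ᵁ N = O₂ := by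
      rw [← hW₂, ← Scheme.Hom.comp_preimage, Scheme.IdealSheafData.inclusion_subschemeι]
    haveI : IsClosedImmersion (k₁ ∣_ N) := IsZariskiLocalAtTarget.restrict (P := @IsClosedImmersion) inferInstance _
    haveI : IsClosedImmersion (k₂ ∣_ N) := IsZariskiLocalAtTarget.restrict (P := @IsClosedImmersion) inferInstance _
    haveI : IsAffine (k₁ ⁻¹ᵁ N).toScheme := by rw [hk₁]; exact hO₁
    haveI : IsAffine (k₂ ⁻¹ᵁ N).toScheme := by rw [hk₂]; exact hO₂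
    let d := coprod.desc (k₁ ∣_ N) (k₂ ∣_ N)
    haveI : Surjective d := ⟨fun z => by
      have hz : ι z.1 ∈ (Z₁ : Set X) ∪ Z₂ := mem_range_subschemeι (Z := Z₁ ⊔ Z₂).1 ⟨z.1, rfl⟩
      rcases hz with h | h
      · obtain ⟨x, hx⟩ := mem_range_subschemeι.2 h
        have hx' : k₁ x = z.1 := ι.isClosedEmbedding.injective (by
          rw [← Scheme.Hom.comp_apply, Scheme.IdealSheafData.inclusion_subschemeι]; exact hx)
        refine ⟨(coprod.inl : (k₁ ⁻¹ᵁ N).toScheme ⟶ _) ⟨x, show k₁ x ∈ N by rw [hx']; exact z.2⟩, ?_⟩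
        rw [← Scheme.Hom.comp_apply, coprod.inl_desc]
        exact Subtype.ext ((congr($(morphismRestrict_ι k₁ N) ⟨x, _⟩)).trans hx')
      · obtain ⟨x, hx⟩ := mem_range_subschemeι.2 h
        have hx' : k₂ x = z.1 := ι.isClosedEmbedding.injective (by
          rw [← Scheme.Hom.comp_apply, Scheme.IdealSheafData.inclusion_subschemeι]; exact hx)
        refine ⟨(coprod.inr : (k₂ ⁻¹ᵁ N).toScheme ⟶ _) ⟨x, show k₂ x ∈ N by rw [hx']; exact z.2⟩, ?_⟩
        rw [← Scheme.Hom.comp_apply, coprod.inr_desc]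
        exact Subtype.ext ((congr($(morphismRestrict_ι k₂ N) ⟨x, _⟩)).trans hx')⟩
    haveI : IsIntegralHom d := inferInstance
    exact ChevAff4.isAffine_of_surjective d

theorem exists_affineOpen (T : Set X) (hT : T.Finite) (hX : (irreducibleComponents X).Finite)
    (h : ∀ (Z : Set X) (hZ : Z ∈ irreducibleComponents X),
      HasTrace T ⟨Z, isClosed_of_mem_irreducibleComponents Z hZ⟩) :
    ∃ U : X.Opens, IsAffineOpen U ∧ T ⊆ U := by
  classical
  haveI := hX.fintype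
  have h1 : ∀ s : Finset (irreducibleComponents X),
      HasTrace T (s.sup fun Z => (⟨Z.1, isClosed_of_mem_irreducibleComponents Z.1 Z.2⟩ : Closeds X)) := by
    intro s
    induction s using Finset.induction_on with
    | empty => exact hasTrace_bot T
    | insert a s _ ih => rw [Finset.sup_insert]; exact hasTrace_sup hT (h a.1 a.2) ih
  obtain ⟨U, hTU, hU⟩ := h1 Finset.univ
  let Ztot := (Finset.univ : Finset (irreducibleComponents X)).sup
    fun Z => (⟨Z.1, isClosed_of_mem_irreducibleComponents Z.1 Z.2⟩ : Closeds X)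
  have htop : ∀ x : X, x ∈ Ztot := fun x => by
    have hx : (⟨irreducibleComponent x, isClosed_irreducibleComponent⟩ : Closeds X) ≤ Ztot :=
      Finset.le_sup (f := fun Z : irreducibleComponents X =>
        (⟨Z.1, isClosed_of_mem_irreducibleComponents Z.1 Z.2⟩ : Closeds X))
        (Finset.mem_univ ⟨irreducibleComponent x, irreducibleComponent_mem_irreducibleComponents x⟩)
    exact hx mem_irreducibleComponent
  let ι := (red Ztot).subschemeι
  haveI : IsClosedImmersion (ι ∣_ U) := IsZariskiLocalAtTarget.restrict (P := @IsClosedImmersion) inferInstance _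
  haveI : IsAffine (ι ⁻¹ᵁ U).toScheme := hU
  haveI : Surjective (ι ∣_ U) := ⟨fun z => by
    obtain ⟨x, hx⟩ := mem_range_subschemeι.2 (htop z.1)
    exact ⟨⟨x, show ι x ∈ U by rw [hx]; exact z.2⟩,
      Subtype.ext ((congr($(morphismRestrict_ι ι U) ⟨x, _⟩)).trans hx)⟩⟩
  exact ⟨U, ChevAff4.isAffine_of_surjective (ι ∣_ U), fun t ht => hTU ⟨ht, htop t⟩⟩

end Groth.Agent.AffComp11
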